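import Cfsg.Agent.H319.FC.Defs

/-!
# S5764, SP4G: no involution outside the semisimilitudes if `|F| = 2 ^ f`, `f` even (helper545)
-/

set_option autoImplicit false
set_option linter.unusedVariables false

namespace Cfsg.Agent.H545.FC

open Cfsg Matrix
open Cfsg.Agent.ClassicalGeometry.SympBasic Cfsg.Agent.ClassicalGeometry.SympAutSemi
open Cfsg.Agent.ClassicalGeometry.Sp4Graph
open Cfsg.Agent.H319.FC

universe u

section map

variable {F : Type u} [Field F]

/-- a field automorphism applied to the entries -/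
def mapS (φ : F ≃+* F) : Sp4 F →* Sp4 F where
  toFun A := ⟨(A : Matrix (Fin 2 ⊕ Fin 2) (Fin 2 ⊕ Fin 2) F).map φ, by
    have h := A.2
    rw [SymplecticGroup.mem_iff] at h ⊢
    have h1 : (Matrix.J (Fin 2) F).map φ = Matrix.J (Fin 2) F := by
      ext i j
      rcases i with i | i <;> rcases j with j | j <;> simp [Matrix.J, Matrix.one_apply, apply_ite]
    have h2 := congrArg (fun X : Matrix (Fin 2 ⊕ Fin 2) (Fin 2 ⊕ Fin 2) F => X.map φ) h
    simp only [Matrix.map_mul] at h2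
    rwa [h1] at h2⟩
  map_one' := by
    apply Subtype.ext
    change (1 : Matrix (Fin 2 ⊕ Fin 2) (Fin 2 ⊕ Fin 2) F).map φ = 1
    rw [Matrix.map_one _ (map_zero φ) (map_one φ)]
  map_mul' A B := by
    apply Subtype.ext
    change ((A : Matrix (Fin 2 ⊕ Fin 2) (Fin 2 ⊕ Fin 2) F) * B).map φ = _
    rw [Matrix.map_mul]
    rfl

theorem mapS_apply (φ : F ≃+* F) (A : Sp4 F) (i j : Fin 2 ⊕ Fin 2) :
    (mapS φ A : Matrix (Fin 2 ⊕ Fin 2) (Fin 2 ⊕ Fin 2) F) i j = φ ((A : Matrix _ _ F) i j) := rfl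

theorem graph_mapS [CharP F 2] (φ : F ≃+* F) (A : Sp4 F) : graphHom F (mapS φ A) = mapS φ (graphHom F A) := by
  apply Subtype.ext
  ext i j
  rw [graphHom_coe, mn_apply, mapS_apply, mapS_apply, mapS_apply, mapS_apply, mapS_apply, graphHom_coe, mn_apply,
    map_add, map_mul, map_mul]

/-- **decomposition of the semisimilitudes** -/
theorem exists_dec [Finite F] [CharP F 2] (g : semiSim 2 F) :
    ∃ (h : Sp4 F) (φ : F ≃+* F), ∀ A, conjHom 2 F g A = h * mapS φ A * h⁻¹ := by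
  obtain ⟨φ, l, hl, hg⟩ := g.2
  have := Fintype.ofFinite F
  have hch : ringChar F = 2 := ringChar.eq F 2 ▸ rfl
  obtain ⟨μ, hμ⟩ := FiniteField.isSquare_of_char_two hch l
  have hμ0 : μ ≠ 0 := by
    rintro rfl
    rw [mul_zero] at hμ
    exact hl hμ
  -- the linear part
  let e : Equiv.Perm (V4 F) :=
    { toFun := fun v => μ⁻¹ • g.1 (φ.symm ∘ v)
      invFun := fun v => φ ∘ (g.1⁻¹ (μ • v))
      left_inv := fun v => by
        change φ ∘ (g.1⁻¹ (μ • μ⁻¹ • g.1 (φ.symm ∘ v))) = v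
        rw [smul_smul, mul_inv_cancel₀ hμ0, one_smul, perm_inv_apply_self]
        funext i
        simp
      right_inv := fun v => by
        change μ⁻¹ • g.1 (φ.symm ∘ (φ ∘ (g.1⁻¹ (μ • v)))) = v
        have h1 : φ.symm ∘ (φ ∘ (g.1⁻¹ (μ • v))) = g.1⁻¹ (μ • v) := by
          funext i
          simp
        rw [h1, perm_apply_inv_self, smul_smul, inv_mul_cancel₀ hμ0, one_smul] }
  have he : ∀ v, e v = μ⁻¹ • g.1 (φ.symm ∘ v) := fun _ => rfl
  have hform : ∀ u v : V4 F, φ (sympForm 2 F (φ.symm ∘ u) (φ.symm ∘ v)) = sympForm 2 F u v := by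
    intro u v
    rw [sympForm_eq, sympForm_eq]
    simp [map_add, map_mul]
  obtain ⟨h, hh⟩ := exists_rho_eq e
    (fun u v => by
      rw [he, he, he, ← smul_add, ← hg.1]
      congr 2
      funext i
      simp)
    (fun a v => by
      rw [he, he, smul_comm a]
      congr 1
      have h1 : φ.symm ∘ (a • v) = (φ.symm a) • (φ.symm ∘ v) := by
        funext i
        simp
      rw [h1, hg.2.1, RingEquiv.apply_symm_apply])
    (fun u v => by
      rw [he, he, sympForm_smul_left, sympForm_smul_right, hg.2.2, hform, hμ]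
      field_simp)
  refine ⟨h, φ, fun A => ?_⟩
  apply rho_injective
  rw [rho_conjHom, map_mul, map_mul, map_inv]
  ext1 w
  obtain ⟨v, rfl⟩ := g.1.surjective w
  have hge : ∀ v, g.1 v = μ • e (φ ∘ v) := by
    intro v
    rw [he, smul_smul, mul_inv_cancel₀ hμ0, one_smul]
    congr 1
    funext i
    simp
  have hlin : ∀ (B : Sp4 F) (a : F) (v : V4 F), rho 2 F B (a • v) = a • rho 2 F B v := fun B a v =>
    (isSemi_rho B).2.1 a v
  have hinv : ∀ (a : F) (v : V4 F), (rho 2 F h)⁻¹ (a • v) = a • (rho 2 F h)⁻¹ v := fun a v => by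
    rw [← map_inv]; exact hlin _ _ _
  rw [Equiv.Perm.mul_apply, Equiv.Perm.mul_apply, Equiv.Perm.mul_apply, Equiv.Perm.mul_apply, perm_inv_apply_self]
  rw [hge v, ← hh, hinv, perm_inv_apply_self, hlin, hlin, hge]
  congr 2
  rw [hh]
  funext i
  change φ (((A : Matrix (Fin 2 ⊕ Fin 2) (Fin 2 ⊕ Fin 2) F) *ᵥ v) i) =
    (((A : Matrix (Fin 2 ⊕ Fin 2) (Fin 2 ⊕ Fin 2) F).map φ) *ᵥ (φ ∘ v)) i
  exact RingHom.map_mulVec φ.toRingHom _ _ _

end map

section main

variable {F : Type u} [Field F]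

theorem center_eq [CharP F 2] : Subgroup.center (Sp4 F) = ⊥ := by
  rw [eq_bot_iff]
  intro z hz
  obtain ⟨a, ha⟩ := (Cfsg.Agent.LieClassical.SympCenter.mem_center_iff 2 z).1 hz
  have h1 : a * a = 1 := by
    refine Cfsg.Agent.ClassicalGeometry.SympAutExists.sq_eq_one_of_center (m := 2) (F := F) (by norm_num) (z := z)
      fun v => ?_
    change (z : Matrix (Fin 2 ⊕ Fin 2) (Fin 2 ⊕ Fin 2) F) *ᵥ v = a • v
    rw [ha, Matrix.smul_mulVec, Matrix.one_mulVec]
  have h2 : a = 1 := by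
    apply CharTwo.sq_injective
    change a ^ 2 = 1 ^ 2
    rw [pow_two, h1, one_pow]
  rw [Subgroup.mem_bot]
  apply Subtype.ext
  rw [ha, h2, one_smul]
  rfl

theorem quotAut_injective [CharP F 2] :
    Function.Injective (quotAut : MulAut (Sp4 F) →* MulAut (Sp4 F ⧸ Subgroup.center (Sp4 F))) := by
  intro α β h
  refine MulEquiv.ext fun A => ?_
  have h1 := DFunLike.congr_fun h (QuotientGroup.mk A)
  rw [quotAut_mk, quotAut_mk, QuotientGroup.eq, center_eq, Subgroup.mem_bot, inv_mul_eq_one] at h1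
  exact h1

/-- an automorphism which is not induced by a semisimilitude is one times the graph automorphism -/
theorem exists_graph [Finite F] [CharP F 2] (ht : ∃ t : F, t ≠ 0 ∧ t ≠ 1) (α : MulAut (Sp4 F))
    (ha : α ∉ (conjHom 2 F).range) : ∃ g : semiSim 2 F, α = conjHom 2 F g * (graphEquiv F : MulAut (Sp4 F)) := by
  have hidx : (Psi 2 F).range.index = 2 :=
    Cfsg.Agent.ClassicalGeometry.SympAutTwo.index_two ht fun α hα => by
      obtain ⟨g, hg⟩ := Cfsg.Agent.ClassicalGeometry.SympAutExists.exists_semi le_rfl α hα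
      exact ⟨g, hg⟩
  have h1 : quotAut α ∉ (Psi 2 F).range := by
    rintro ⟨g, hg⟩
    exact ha ⟨g, quotAut_injective hg⟩
  have h2 : quotAut (graphEquiv F : MulAut (Sp4 F)) ∉ (Psi 2 F).range := by
    intro h
    have h1 := Cfsg.Agent.ClassicalGeometry.AutPSpCount.pres_of_mem_range h
    obtain ⟨w, -, d, -, h2⟩ := h1 (Cfsg.Agent.ClassicalGeometry.Sp4GraphAut.e1 F)
      Cfsg.Agent.ClassicalGeometry.Sp4GraphAut.e1_ne_zero 1 one_ne_zero
    exact Cfsg.Agent.ClassicalGeometry.Sp4GraphAut.gamma_transv_ne one_ne_zero w d h2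
  have h3 : quotAut α * (quotAut (graphEquiv F : MulAut (Sp4 F)))⁻¹ ∈ (Psi 2 F).range := by
    rw [Subgroup.mul_mem_iff_of_index_two hidx, Subgroup.inv_mem_iff]
    exact ⟨fun h => absurd h h1, fun h => absurd h h2⟩
  obtain ⟨g, hg⟩ := h3
  refine ⟨g, quotAut_injective ?_⟩
  rw [map_mul]
  have h4 : quotAut (conjHom 2 F g) = quotAut α * (quotAut (graphEquiv F : MulAut (Sp4 F)))⁻¹ := hg
  rw [h4, inv_mul_cancel_right]

/-- a symplectic matrix with trace `a` -/
def trM [CharP F 2] (a : F) : Sp4 F :=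
  ⟨Matrix.fromBlocks (Matrix.diagonal ![a, 1]) (Matrix.diagonal ![1, 0]) (Matrix.diagonal ![1, 0])
    (Matrix.diagonal ![0, 1]), by
    have h2 : (2 : F) = 0 := CharTwo.two_eq_zero
    have hn : ∀ x : F, -x = x := CharTwo.neg_eq
    rw [SymplecticGroup.mem_iff]
    ext i j
    rcases i with i | i <;> rcases j with j | j <;> fin_cases i <;> fin_cases j <;>
      simp [Matrix.J, Matrix.mul_apply, Fintype.sum_sum_type, Matrix.diagonal_apply,
        Matrix.one_apply, hn, CharTwo.add_self_eq_zero]⟩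

theorem trace_trM [CharP F 2] (a : F) : Matrix.trace (trM a : Matrix (Fin 2 ⊕ Fin 2) (Fin 2 ⊕ Fin 2) F) = a := by
  simp [trM, Matrix.trace, Fintype.sum_sum_type, Fin.sum_univ_two, add_assoc, CharTwo.add_self_eq_zero]

theorem trace_sq [CharP F 2] (φ : F ≃+* F) (A : Sp4 F) :
    Matrix.trace ((mapS φ (mapS φ (graphHom F (graphHom F A))) : Sp4 F) :
      Matrix (Fin 2 ⊕ Fin 2) (Fin 2 ⊕ Fin 2) F) =
    φ (φ ((Matrix.trace (A : Matrix (Fin 2 ⊕ Fin 2) (Fin 2 ⊕ Fin 2) F)) ^ 2)) := by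
  simp only [Matrix.trace, Matrix.diag_apply, mapS_apply, graphHom_graphHom]
  rw [CharTwo.sum_sq, map_sum, map_sum]

/-- **no involution outside the semisimilitudes.** -/
theorem no_graph_inv [Finite F] [CharP F 2] (f : ℕ) (hf : Nat.card F = 2 ^ f) (hev : Even f) (α : MulAut (Sp4 F))
    (ha : α ∉ (conjHom 2 F).range) : α * α ≠ 1 := by
  intro hα
  have := Fintype.ofFinite F
  -- a primitive cube root of unity
  have hf2 : 2 ≤ f := by
    obtain ⟨k, hk⟩ := hev
    have h1 : 1 < Nat.card F := Finite.one_lt_card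
    by_contra hcon
    have h2 : f = 0 := by omega
    rw [hf, h2, pow_zero] at h1
    omega
  obtain ⟨ω, hω⟩ : ∃ ω : Fˣ, orderOf ω = 3 := by
    have h3 : Fact (Nat.Prime 3) := ⟨Nat.prime_three⟩
    apply exists_prime_orderOf_dvd_card' 3
    rw [Nat.card_units, hf]
    obtain ⟨k, rfl⟩ := hev
    have h1 : 2 ^ (k + k) = 4 ^ k := by rw [← two_mul, pow_mul]; norm_num
    rw [h1]
    have := Nat.sub_dvd_pow_sub_pow 4 1 k
    rwa [one_pow] at this
  have hω3 : (ω : F) ^ 3 = 1 := by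
    rw [← Units.val_pow_eq_pow_val, ← hω, pow_orderOf_eq_one, Units.val_one]
  have hω1 : (ω : F) ≠ 1 := by
    intro h
    have : ω = 1 := Units.ext h
    rw [this, orderOf_one] at hω
    omega
  have hω0 : (ω : F) ≠ 0 := ω.ne_zero
  have hq : (ω : F) ^ 2 + ω + 1 = 0 := by
    have h1 : ((ω : F) - 1) * ((ω : F) ^ 2 + ω + 1) = 0 := by linear_combination hω3
    rcases mul_eq_zero.1 h1 with h2 | h2
    · exact absurd (sub_eq_zero.1 h2) hω1
    · exact h2
  -- field automorphisms fix or square it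
  have hφ : ∀ φ : F ≃+* F, φ (φ (ω : F)) = ω := by
    intro φ
    have h1 : (φ (ω : F)) ^ 2 + φ ω + 1 = 0 := by
      rw [← map_pow, ← map_add, ← map_one φ, ← map_add, hq, map_zero]
    have h2 : (φ (ω : F) - ω) * (φ ω - ω ^ 2) = 0 := by
      linear_combination h1 - (φ ω) * hq + hω3
    rcases mul_eq_zero.1 h2 with h3 | h3
    · rw [sub_eq_zero] at h3
      rw [h3, h3]
    · rw [sub_eq_zero] at h3
      rw [h3, map_pow, h3, ← pow_mul]
      calc (ω : F) ^ (2 * 2) = (ω : F) ^ 3 * (ω : F) := by ring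
        _ = (ω : F) := by rw [hω3, one_mul]
  have ht : ∃ t : F, t ≠ 0 ∧ t ≠ 1 := ⟨ω, hω0, hω1⟩
  obtain ⟨g, rfl⟩ := exists_graph ht α ha
  obtain ⟨h, φ, hd⟩ := exists_dec g
  -- the square
  have key : ∀ A : Sp4 F, A = (h * mapS φ (graphHom F h)) * mapS φ (mapS φ (graphHom F (graphHom F A))) *
      (h * mapS φ (graphHom F h))⁻¹ := by
    intro A
    have h1 := DFunLike.congr_fun hα A
    change conjHom 2 F g (graphHom F (conjHom 2 F g (graphHom F A))) = A at h1
    rw [hd, hd] at h1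
    simp only [map_mul, map_inv, graph_mapS, mul_assoc] at h1
    rw [_root_.mul_inv_rev, mul_assoc, mul_assoc]
    exact h1.symm
  have h1 := congrArg (fun A : Sp4 F => Matrix.trace (A : Matrix (Fin 2 ⊕ Fin 2) (Fin 2 ⊕ Fin 2) F))
    (key (trM (ω : F)))
  have htr : ∀ k B : Sp4 F, Matrix.trace ((k * B * k⁻¹ : Sp4 F) : Matrix (Fin 2 ⊕ Fin 2) (Fin 2 ⊕ Fin 2) F) =
      Matrix.trace (B : Matrix (Fin 2 ⊕ Fin 2) (Fin 2 ⊕ Fin 2) F) := by
    intro k B
    have e1 : ((k * B * k⁻¹ : Sp4 F) : Matrix (Fin 2 ⊕ Fin 2) (Fin 2 ⊕ Fin 2) F) =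
        (k : Matrix _ _ F) * ((B * k⁻¹ : Sp4 F) : Matrix _ _ F) := by rw [mul_assoc]; rfl
    rw [e1, Matrix.trace_mul_comm]
    have e2 : ((B * k⁻¹ : Sp4 F) : Matrix (Fin 2 ⊕ Fin 2) (Fin 2 ⊕ Fin 2) F) * (k : Matrix _ _ F) =
        ((B * k⁻¹ * k : Sp4 F) : Matrix _ _ F) := rfl
    rw [e2, inv_mul_cancel_right]
  simp only [htr] at h1
  rw [trace_trM] at h1
  rw [trace_sq, trace_trM, map_pow, map_pow, hφ] at h1
  -- `ω = ω ^ 2`
  apply hω1
  have h3 : (ω : F) * (ω - 1) = 0 := by linear_combination -h1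
  rcases mul_eq_zero.1 h3 with h4 | h4
  · exact absurd h4 hω0
  · exact sub_eq_zero.1 h4

end main

end Cfsg.Agent.H545.FC
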